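import Cfsg.Agent.CpAutON.Gen
import Mathlib.FieldTheory.Finite.Basic

/-!
# Almost simple groups of index at most two and real elements of order `p ≡ 3 (mod 4)` (helper710, for S4554)
-/

set_option autoImplicit false

namespace Cfsg.Agent.H710.R4

open Subgroup

universe u

theorem index_congr {X Y : Type*} [Group X] [Group Y] (e : X ≃* Y) :
    (MulAut.conj : X →* MulAut X).range.index = (MulAut.conj : Y →* MulAut Y).range.index := by
  let c : MulAut Y ≃* MulAut X := MulAut.congr e.symm
  have h1 : (MulAut.conj : X →* MulAut X).range = ((MulAut.conj : Y →* MulAut Y).range).map c.toMonoidHom := by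
    ext α
    constructor
    · rintro ⟨x, rfl⟩
      refine ⟨MulAut.conj (e x), ⟨e x, rfl⟩, MulEquiv.ext fun y => ?_⟩
      show e.symm (e x * e y * (e x)⁻¹) = x * y * x⁻¹
      rw [← map_inv, ← map_mul, ← map_mul, e.symm_apply_apply]
    · rintro ⟨_, ⟨y, rfl⟩, rfl⟩
      refine ⟨e.symm y, MulEquiv.ext fun x => ?_⟩
      show e.symm y * x * (e.symm y)⁻¹ = e.symm (y * e x * y⁻¹)
      rw [map_mul, map_mul, map_inv, e.symm_apply_apply]
  rw [h1]
  exact Subgroup.index_map_equiv ((MulAut.conj : Y →* MulAut Y).range) c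

/-- the index of a normal subgroup with trivial centralizer -/
theorem index_le_out {X : Type u} [Group X] [Finite X] (N : Subgroup X) [N.Normal]
    (hc : Subgroup.centralizer (N : Set X) = ⊥) : N.index ≤ (MulAut.conj : N →* MulAut N).range.index := by
  have : Finite (MulAut N) := Finite.of_injective (fun f : MulAut N => (f : N → N)) fun a b hab =>
    MulEquiv.ext fun x => congrFun hab x
  set R := (MulAut.conj : N →* MulAut N).range with hR
  have h1 : R.comap (MulAut.conjNormal : X →* MulAut N) ≤ N := by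
    rintro x ⟨n, hn⟩
    have h2 : (n : X)⁻¹ * x ∈ Subgroup.centralizer (N : Set X) := by
      rw [Subgroup.mem_centralizer_iff]
      intro y hy
      have h3 := congrArg (fun f : MulAut N => ((f ⟨y, hy⟩ : N) : X)) hn
      have h4 : (n : X) * y * (n : X)⁻¹ = x * y * x⁻¹ := h3
      calc y * ((n : X)⁻¹ * x) = (n : X)⁻¹ * (n * y * (n : X)⁻¹) * x := by group
        _ = (n : X)⁻¹ * (x * y * x⁻¹) * x := by rw [h4]
        _ = (n : X)⁻¹ * x * y := by group
    rw [hc, Subgroup.mem_bot, inv_mul_eq_one] at h2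
    rw [← h2]
    exact n.2
  calc N.index ≤ (R.comap (MulAut.conjNormal : X →* MulAut N)).index :=
        Nat.le_of_dvd (Nat.pos_of_ne_zero Subgroup.index_ne_zero_of_finite) (Subgroup.index_dvd_of_le h1)
    _ = R.relIndex (MulAut.conjNormal : X →* MulAut N).range := by rw [Subgroup.index_comap]
    _ ≤ R.relIndex ⊤ := Subgroup.relIndex_le_of_le_right le_top (by
        rw [Subgroup.relIndex_top_right]; exact Subgroup.index_ne_zero_of_finite)
    _ = R.index := Subgroup.relIndex_top_right R

/-- the index of a normal subgroup with trivial centralizer -/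
theorem index_le_of_equiv {S : Type*} [Group S] {X : Type u} [Group X] [Finite X] (N : Subgroup X) [N.Normal] (e : S ≃* N)
    (hc : Subgroup.centralizer (N : Set X) = ⊥) {k : ℕ} (hk : (MulAut.conj : S →* MulAut S).range.index ≤ k) :
    N.index ≤ k :=
  (index_le_out N hc).trans ((index_congr e).symm.le.trans hk)

/-- the commutator subgroup -/
theorem commutator_le_of_index {X : Type u} [Group X] [Finite X] (N : Subgroup X) [N.Normal] (h : N.index ≤ 2) :
    commutator X ≤ N := by
  have hpos : N.index ≠ 0 := Subgroup.index_ne_zero_of_finite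
  have hcase : N.index = 1 ∨ N.index = 2 := by omega
  rcases hcase with hi | hi
  · rw [Subgroup.index_eq_one.1 hi]
    exact le_top
  · rw [commutator_def, Subgroup.commutator_le]
    intro a _ b _
    rw [commutatorElement_def]
    simp only [Subgroup.mul_mem_iff_of_index_two hi, Subgroup.inv_mem_iff]
    tauto

/-- **Real elements of order `p ≡ 3 (mod 4)`.** -/
theorem index_eq_relIndex {X : Type u} [Group X] [Finite X] (N : Subgroup X) [hN : N.Normal] (h : N.index ≤ 2) {p : ℕ}
    (hp : p.Prime) (hp4 : p % 4 = 3) (hsq : ¬ p ^ 2 ∣ Nat.card N) {x t : X} (hx : orderOf x = p) (hxN : x ∈ N)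
    (ht : t ∈ N) (htx : t * x * t⁻¹ = x⁻¹) : N.index = 1 * N.relIndex (Subgroup.centralizer ({x} : Set X)) := by
  have : Fact p.Prime := ⟨hp⟩
  rw [one_mul]
  have hpos : N.index ≠ 0 := Subgroup.index_ne_zero_of_finite
  have hcase : N.index = 1 ∨ N.index = 2 := by omega
  rcases hcase with hi | hi
  · rw [hi, Subgroup.index_eq_one.1 hi, Subgroup.relIndex_top_left]
  · by_contra hne
    -- the centralizer lies in `N`
    have hle : Subgroup.centralizer ({x} : Set X) ≤ N := by
      rw [← Subgroup.relIndex_eq_one]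
      have h1 : N.relIndex (Subgroup.centralizer ({x} : Set X)) ∣ N.index := Subgroup.relIndex_dvd_index_of_normal N _
      rw [hi] at h1 hne
      rcases (Nat.dvd_prime Nat.prime_two).1 h1 with h2 | h2
      · exact h2
      · exact absurd h2.symm hne
    -- an element outside
    obtain ⟨g, hg⟩ : ∃ g : X, g ∉ N := by
      by_contra hcon
      push Not at hcon
      have : N = ⊤ := by rw [eq_top_iff]; exact fun g _ => hcon g
      rw [this, Subgroup.index_top] at hi
      exact absurd hi (by norm_num)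
    obtain ⟨n, hn⟩ := Cfsg.Agent.CpAutON.Gen.conj_into (G := N) (p := p) hsq
      (x := ⟨g * x * g⁻¹, hN.conj_mem x hxN g⟩) (y := ⟨x, hxN⟩) (by
        rw [Subgroup.orderOf_mk, ← hx]
        exact orderOf_injective (MulAut.conj g).toMonoidHom (MulAut.conj g).injective x)
        (by rw [Subgroup.orderOf_mk, hx])
    obtain ⟨k, hk⟩ := Subgroup.mem_zpowers_iff.1 hn
    have hk' : x ^ k = (n * g) * x * (n * g)⁻¹ := by
      have h2 := congrArg (fun y : N => (y : X)) hk
      have h3 : x ^ k = n * (g * x * g⁻¹) * (n : X)⁻¹ := h2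
      rw [h3]
      group
    have hng : (n : X) * g ∉ N := fun hh => hg ((N.mul_mem_cancel_left n.2).1 hh)
    set s := (n : X) * g with hs
    have hpw : ∀ m : ℕ, s ^ m * x * (s ^ m)⁻¹ = x ^ (k ^ m) := by
      intro m
      induction m with
      | zero => simp
      | succ m ih =>
        calc s ^ (m + 1) * x * (s ^ (m + 1))⁻¹ = s ^ m * (s * x * s⁻¹) * (s ^ m)⁻¹ := by
              rw [pow_succ, mul_inv_rev]; group
          _ = s ^ m * x ^ k * (s ^ m)⁻¹ := by rw [hk']
          _ = (s ^ m * x * (s ^ m)⁻¹) ^ k := by rw [conj_zpow]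
          _ = x ^ (k ^ (m + 1)) := by rw [ih, ← zpow_mul, pow_succ]
    -- `k ^ ((p - 1) / 2) = ± 1`
    have hm : Odd ((p - 1) / 2) := by
      rw [Nat.odd_iff]
      omega
    have hm2 : 2 * ((p - 1) / 2) = p - 1 := by omega
    have hsm : s ^ ((p - 1) / 2) ∉ N := by
      obtain ⟨j, hj⟩ := hm
      rw [hj, pow_succ, mul_comm 2 j, pow_mul]
      intro hh
      exact hng ((N.mul_mem_cancel_left (Subgroup.sq_mem_of_index_two hi (s ^ j))).1 hh)
    have hk0 : ((k : ℤ) : ZMod p) ≠ 0 := by
      intro h0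
      rw [ZMod.intCast_zmod_eq_zero_iff_dvd] at h0
      have h4 : x ^ k = 1 := by
        rw [← hx] at h0
        exact orderOf_dvd_iff_zpow_eq_one.1 h0
      rw [h4] at hk'
      have h5 : x = 1 := by
        have := hk'.symm
        rwa [mul_inv_eq_one, mul_eq_left] at this
      rw [h5, orderOf_one] at hx
      exact hp.one_lt.ne hx
    have h6 : (((k : ℤ) : ZMod p) ^ ((p - 1) / 2)) ^ 2 = 1 := by
      rw [← pow_mul, mul_comm, hm2]
      exact ZMod.pow_card_sub_one_eq_one hk0
    have h7 := hpw ((p - 1) / 2)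
    rw [pow_two, mul_self_eq_one_iff] at h6
    have hdv : ∀ j : ℤ, ((j : ℤ) : ZMod p) = 0 → x ^ j = 1 := by
      intro j hj
      rw [ZMod.intCast_zmod_eq_zero_iff_dvd, ← hx] at hj
      exact orderOf_dvd_iff_zpow_eq_one.1 hj
    rcases h6 with h8 | h8
    · have h9 : x ^ (k ^ ((p - 1) / 2) - 1) = 1 := hdv _ (by push_cast; rw [h8, sub_self])
      rw [zpow_sub, zpow_one, mul_inv_eq_one] at h9
      rw [h9, mul_inv_eq_iff_eq_mul] at h7
      exact hsm (hle (Subgroup.mem_centralizer_singleton_iff.2 h7))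
    · have h9 : x ^ (k ^ ((p - 1) / 2) + 1) = 1 := hdv _ (by push_cast; rw [h8, neg_add_cancel])
      rw [zpow_add, zpow_one, mul_eq_one_iff_eq_inv] at h9
      rw [h9, ← htx] at h7
      have h10 : t⁻¹ * s ^ ((p - 1) / 2) ∈ Subgroup.centralizer ({x} : Set X) := by
        rw [Subgroup.mem_centralizer_singleton_iff]
        calc t⁻¹ * s ^ ((p - 1) / 2) * x = t⁻¹ * (s ^ ((p - 1) / 2) * x * (s ^ ((p - 1) / 2))⁻¹) *
              s ^ ((p - 1) / 2) := by group
          _ = t⁻¹ * (t * x * t⁻¹) * s ^ ((p - 1) / 2) := by rw [h7]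
          _ = x * (t⁻¹ * s ^ ((p - 1) / 2)) := by group
      exact hsm ((N.mul_mem_cancel_left (N.inv_mem ht)).1 (hle h10))

end Cfsg.Agent.H710.R4
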