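import Cfsg.Agent.H619.R4.Red
import Cfsg.Agent.OddOrderCharacters.IndRes
import Cfsg.Agent.S0862
import Cfsg.Agent.S0886
import Cfsg.Agent.CharDeep.IrrEquiv
import Cfsg.Agent.CharactersDeep.ExtUnique

/-!
# Real characters over real characters of odd degree of a simple normal subgroup of index at most two (helper710)
-/

set_option autoImplicit false

namespace Cfsg.Agent.H710.R4

open Cfsg Cfsg.Agent.Characters Cfsg.Agent.Blocks Cfsg.Agent.H686.CharKit Cfsg.Agent.H619.R4
open Cfsg.Agent.OddOrderCharacters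
open scoped ComplexConjugate

universe u

/-- the determinant of the complex conjugate character -/
theorem detChar_conj {G : Type u} [Group G] [Finite G] {χ : G → ℂ} (hχ : IsIrrCharacter G χ) (g : G) :
    detChar (fun g => conj (χ g)) g = detChar χ g⁻¹ := by
  have h1 := Core.isIrr_conj hχ
  obtain ⟨n, ρ, hρ, rfl⟩ := hχ
  obtain ⟨m, σ, hσ, hσc⟩ := h1
  have h2 : σ.character = (Representation.dual ρ).character := by
    funext x
    rw [hσc, Representation.char_dual]
    exact (Core.isCharacter_apply_inv ⟨n, ρ, rfl⟩ x).symm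
  rw [CharDeep.IrrEquiv.detChar_apply σ hσ hσc ⟨m, σ, hσc⟩,
    CharDeep.IrrEquiv.detChar_apply ρ hρ rfl ⟨n, ρ, rfl⟩,
    CharDeep.IrrEquiv.det_eq_of_character_eq σ _ hσ h2]
  exact LinearMap.det_dualMap _


/-- linear characters of a nonabelian simple group are trivial -/
theorem detChar_eq_one {N : Type u} [Group N] [Finite N] [IsSimpleGroup N] (hna : ¬ IsMulCommutative N) {θ : N → ℂ}
    (hθ : IsIrrCharacter N θ) (n : N) : detChar θ n = 1 := by
  obtain ⟨δ, hδ⟩ := CharactersDeep.ExtUnique.exists_hom_detChar hθ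
  rw [hδ]
  rcases δ.normal_ker.eq_bot_or_eq_top with h | h
  · exfalso
    apply hna
    have hinj := (MonoidHom.ker_eq_bot_iff δ).1 h
    exact ⟨⟨fun a b => hinj (by rw [map_mul, map_mul, mul_comm])⟩⟩
  · have h1 : n ∈ δ.ker := by rw [h]; exact Subgroup.mem_top n
    rw [MonoidHom.mem_ker.1 h1, Units.val_one]

/-- a real invariant character of odd degree of a nonabelian simple normal subgroup of index two has a real
extension -/
theorem exists_real_ext {G : Type u} [Group G] [Finite G] (N : Subgroup G) [hN : N.Normal] [IsSimpleGroup N]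
    (hna : ¬ IsMulCommutative N) (h2 : N.index = 2) {θ : N → ℂ} (hθ : IsIrrCharacter N θ) (hr : ∀ n, (θ n).im = 0)
    (hinv : ∀ (g : G) (n : N), θ ⟨g * n * g⁻¹, hN.conj_mem (n : G) n.2 g⟩ = θ n) {d : ℕ} (hd : θ 1 = d)
    (hodd : Odd d) : ∃ χ : G → ℂ, IsIrrCharacter G χ ∧ (∀ g, (χ g).im = 0) ∧ ∀ n : N, χ n = θ n := by
  have hcard : Nat.card (G ⧸ N) = 2 := by rw [← Subgroup.index_eq_card, h2]
  have : Fact (Nat.Prime 2) := ⟨Nat.prime_two⟩
  have hcyc : IsCyclic (G ⧸ N) := isCyclic_of_prime_card hcard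
  obtain ⟨η, hη, hηN⟩ := S0886.result N hcyc θ hθ hinv
  obtain ⟨χ, ⟨hχ, hχN, hdet⟩, huniq⟩ := S0862.result N θ hθ d hd
    (by rw [h2]; exact Nat.coprime_two_left.2 hodd) ⟨η, hη, hηN⟩ (1 : G → ℂ) ⟨Core.isCharacter_one, rfl⟩
    (fun n => (detChar_eq_one hna hθ n).symm)
  have h3 : (fun g => conj (χ g)) = χ := by
    refine huniq (fun g => conj (χ g)) ⟨Core.isIrr_conj hχ, fun n => ?_, ?_⟩
    · show conj (χ n) = θ n
      rw [hχN]
      exact Complex.conj_eq_iff_im.2 (hr n)
    · funext g
      rw [detChar_conj hχ, hdet]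
      rfl
  exact ⟨χ, hχ, fun g => Complex.conj_eq_iff_im.1 (congrFun h3 g), hχN⟩

/-- a nontrivial irreducible character is not constant -/
theorem exists_ne {N : Type u} [Group N] [Finite N] {θ : N → ℂ} (hθ : IsIrrCharacter N θ) {d : ℕ}
    (hd : θ 1 = d) (h1 : d ≠ 1) : ∃ n, θ n ≠ θ 1 := by
  classical
  have := Fintype.ofFinite N
  by_contra hcon
  push Not at hcon
  have h2 := Core.classInner_irr_self hθ
  have h3 : θ = (d : ℂ) • (1 : N → ℂ) := by
    funext n
    rw [hcon, hd, Pi.smul_apply, Pi.one_apply, smul_eq_mul, mul_one]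
  rw [h3, Core.classInner_smul_left, Core.classInner_smul_right, Core.classInner_irr_self Core.isIrr_one,
    Complex.conj_natCast, mul_one] at h2
  have h4 : d * d = 1 := by exact_mod_cast h2
  exact h1 (Nat.eq_one_of_mul_eq_one_right h4)

theorem charDegree_of {G : Type u} [Group G] [Finite G] (χ : IrrCharacter G) {d : ℕ} (h : (χ : G → ℂ) 1 = d) :
    charDegree (χ : G → ℂ) = d := by
  have h1 := charDegree_irr χ
  rw [h] at h1
  exact_mod_cast h1

/-- **Lifting real characters of odd degree**: `N` nonabelian simple, normal, of index at most two. -/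
theorem lift {G : Type u} [Group G] [Finite G] (N : Subgroup G) [hN : N.Normal] [IsSimpleGroup N]
    (hna : ¬ IsMulCommutative N) (h2 : N.index ≤ 2) {θ : N → ℂ} (hθ : IsIrrCharacter N θ) (hr : ∀ n, (θ n).im = 0)
    {d : ℕ} (hd : θ 1 = d) (hodd : Odd d) (h1 : d ≠ 1) : RD G N d ∨ RD G N (2 * d) := by
  classical
  have := Fintype.ofFinite G
  have := Fintype.ofFinite N
  obtain ⟨n₀, hn₀⟩ := exists_ne hθ hd h1
  have hpos : N.index ≠ 0 := Subgroup.index_ne_zero_of_finite
  have hcase : N.index = 1 ∨ N.index = 2 := by omega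
  rcases hcase with hi | hi
  · left
    have htop := Subgroup.index_eq_one.1 hi
    have hmem : ∀ g : G, g ∈ N := fun g => by rw [htop]; exact Subgroup.mem_top g
    let f : G →* N := { toFun := fun g => ⟨g, hmem g⟩, map_one' := rfl, map_mul' := fun _ _ => rfl }
    have hf : Function.Surjective f := fun n => ⟨n, rfl⟩
    refine ⟨⟨θ ∘ f, Core.isIrr_comp f hf hθ⟩, fun g => hr _, ⟨n₀, n₀.2, ?_⟩, charDegree_of _ ?_⟩
    · show θ (f n₀) ≠ θ (f 1)
      rw [map_one]
      exact hn₀
    · show θ (f 1) = d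
      rw [map_one, hd]
  · by_cases hinv : ∀ (g : G) (n : N), θ ⟨g * n * g⁻¹, hN.conj_mem (n : G) n.2 g⟩ = θ n
    · left
      obtain ⟨χ, hχ, hχr, hχN⟩ := exists_real_ext N hna hi hθ hr hinv hd hodd
      refine ⟨⟨χ, hχ⟩, hχr, ⟨n₀, n₀.2, ?_⟩, charDegree_of _ ?_⟩
      · show χ n₀ ≠ χ 1
        rw [hχN, show χ 1 = θ 1 from hχN 1]
        exact hn₀
      · show χ 1 = d
        rw [show χ 1 = θ 1 from hχN 1, hd]
    · right
      push Not at hinv
      obtain ⟨g₀, n₁, hg₀⟩ := hinv
      have hirr : IsIrrCharacter G (indFun N θ) := by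
        refine IndRes.isIrr_indFun_of_stabilizer N hθ fun g hg => ?_
        by_contra hgN
        -- `g₀ ∉ N`, hence `g₀ = g n`
        apply hg₀
        have hcl := Core.isIrr_isClassFunction hθ
        have hinvg : ∀ n : N, θ ⟨g * n * g⁻¹, hN.conj_mem (n : G) n.2 g⟩ = θ n := fun n => congrFun hg n
        have hg1 : g₀ ∉ N := by
          intro h
          apply hg₀
          exact hcl n₁ ⟨g₀, h⟩
        have h5 : g₀ * g⁻¹ ∈ N := by
          have h6 := Subgroup.mul_mem_iff_of_index_two hi (a := g₀) (b := g⁻¹)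
          rw [h6]
          exact ⟨fun h => absurd h hg1, fun h => absurd (N.inv_mem_iff.1 h) hgN⟩
        have h7 := hcl ⟨g * n₁ * g⁻¹, hN.conj_mem (n₁ : G) n₁.2 g⟩ ⟨g₀ * g⁻¹, h5⟩
        rw [hinvg] at h7
        rw [← h7]
        congr 1
        apply Subtype.ext
        show g₀ * (n₁ : G) * g₀⁻¹ = g₀ * g⁻¹ * (g * n₁ * g⁻¹) * (g₀ * g⁻¹)⁻¹
        group
      refine ⟨⟨_, hirr⟩, real_indFun N θ hr, ?_, charDegree_of _ ?_⟩
      · by_contra hcon
        push Not at hcon
        have h8 := Core.classInner_irr_self hirr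
        rw [IndRes.classInner_indFun_left N θ (Core.isIrr_isClassFunction hirr)] at h8
        have h9 : IndRes.res N (indFun N θ) = (indFun N θ 1) • (1 : N → ℂ) := by
          funext n
          rw [Pi.smul_apply, Pi.one_apply, smul_eq_mul, mul_one]
          exact hcon n n.2
        rw [h9, Core.classInner_smul_right] at h8
        have h10 : classInner θ (1 : N → ℂ) = 0 := by
          refine Core.classInner_irr_ne hθ Core.isIrr_one ?_
          rintro rfl
          exact hn₀ rfl
        rw [h10, mul_zero] at h8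
        exact zero_ne_one h8
      · show indFun N θ 1 = _
        rw [CharactersDeep.NormalInd.indFun_one, hi, hd]
        push_cast
        ring

end Cfsg.Agent.H710.R4
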